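import Groth.Agent.Lib.WeilEtale25.Split
import Groth.Agent.Lib.WeilExist.Basic
import Groth.Agent.Lib.FpqcDesc.Basic
import Groth.Agent.S9559
import Mathlib.AlgebraicGeometry.Morphisms.LocalFlatDescent

/-!
# The scheme of morphisms between two finite étale schemes
-/

set_option autoImplicit false
set_option backward.isDefEq.respectTransparency.types false
universe u

open CategoryTheory CategoryTheory.Limits AlgebraicGeometry

namespace Groth.Agent.WeilEtale25

variable {X : Scheme.{u}} {Z : Scheme.{u}} (c : Z ⟶ X) {U : Scheme.{u}} (f : U ⟶ X) {R : Scheme.{u}} (ρ : R ⟶ X)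
  (h₀ : pullback ρ f ⟶ Z)

/-- Evaluation of the universal morphism at a point. -/
noncomputable def ev {T : Scheme.{u}} (g : T ⟶ X) (s : T ⟶ R) (hs : s ≫ ρ = g) : pullback g f ⟶ Z :=
  pullback.lift (pullback.fst g f ≫ s) (pullback.snd g f) (by rw [Category.assoc, hs, pullback.condition]) ≫ h₀

set_option maxHeartbeats 800000 in
/-- Where the source splits, a scheme representing morphisms is a fibre power, so finite étale. -/
theorem prop_pullback_snd_of_split [Etale f] (hc : FEt.prop c)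
    (hev : ∀ (T : Scheme.{u}) (g : T ⟶ X) (s : T ⟶ R) (hs : s ≫ ρ = g), ev f ρ h₀ g s hs ≫ c = pullback.fst g f ≫ g)
    (huniv : ∀ (T : Scheme.{u}) (g : T ⟶ X) (h : pullback g f ⟶ Z), h ≫ c = pullback.fst g f ≫ g →
      ∃! s : T ⟶ R, ∃ hs : s ≫ ρ = g, ev f ρ h₀ g s hs = h)
    {N : Scheme.{u}} (g : N ⟶ X) {n : ℕ} (σ : Fin n → (N ⟶ U)) (hσ : ∀ j, σ j ≫ f = g)
    (hdisj : ∀ i j, i ≠ j →
      Disjoint (Set.range (sec g f σ hσ N (𝟙 N) i)) (Set.range (sec g f σ hσ N (𝟙 N) j)))
    (hcov : ∀ z : ↥(pullback (𝟙 N ≫ g) f), ∃ j, z ∈ Set.range (sec g f σ hσ N (𝟙 N) j)) :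
    FEt.prop (pullback.snd ρ g) := by
  let PR := pullback ρ g
  let r : Fin n → (PR ⟶ Z) := fun j =>
    sec g f σ hσ PR (pullback.snd ρ g) j ≫ ev f ρ h₀ _ (pullback.fst ρ g) pullback.condition
  have hr : ∀ j, r j ≫ c = pullback.snd ρ g ≫ g := fun j => by
    rw [Category.assoc, hev, ← Category.assoc, sec_fst, Category.id_comp]
  have hnat : ∀ (T : Scheme.{u}) (t : T ⟶ N) (m : T ⟶ PR) (hm : m ≫ pullback.snd ρ g = t)
      (hs : (m ≫ pullback.fst ρ g) ≫ ρ = t ≫ g) (j : Fin n),
      m ≫ r j = sec g f σ hσ T t j ≫ ev f ρ h₀ _ (m ≫ pullback.fst ρ g) hs := by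
    intro T t m hm hs j
    simp only [r, ev, ← Category.assoc]
    congr 1
    apply pullback.hom_ext
    · simp only [Category.assoc]
      erw [pullback.lift_fst, pullback.lift_fst]
      rw [← Category.assoc (sec g f σ hσ PR _ j), sec_fst, Category.id_comp, ← Category.assoc (sec g f σ hσ T t j),
        sec_fst, Category.id_comp]
    · simp only [Category.assoc]
      erw [pullback.lift_snd]
      rw [sec_snd]
      erw [pullback.lift_snd]
      rw [sec_snd, reassoc_of% hm]
  have hPR : ∀ (T : Scheme.{u}) (t : T ⟶ N) (w : Fin n → (T ⟶ Z)), (∀ j, w j ≫ c = t ≫ g) →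
      ∃! m : T ⟶ PR, m ≫ pullback.snd ρ g = t ∧ ∀ j, m ≫ r j = w j := by
    intro T t w hw
    obtain ⟨h, hh, hhuniq⟩ := existsUnique_desc g f σ hσ hdisj hcov T t w
    have hhc : h ≫ c = pullback.fst (t ≫ g) f ≫ t ≫ g := by
      obtain ⟨d, -, hd⟩ := existsUnique_desc g f σ hσ hdisj hcov T t (fun _ => t ≫ g)
      rw [hd (h ≫ c) fun j => by rw [reassoc_of% (hh j), hw], hd (pullback.fst (t ≫ g) f ≫ t ≫ g) fun j => by
        rw [← Category.assoc, sec_fst, Category.id_comp]]
    obtain ⟨s, ⟨hs, hse⟩, hsuniq⟩ := huniv T (t ≫ g) h hhc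
    refine ⟨pullback.lift s t hs, ⟨pullback.lift_snd _ _ _, fun j => ?_⟩, ?_⟩
    · rw [hnat T t _ (pullback.lift_snd _ _ _) (by erw [pullback.lift_fst]; exact hs) j]
      have e : pullback.lift s t hs ≫ pullback.fst ρ g = s := pullback.lift_fst _ _ _
      simp only [e, hse, hh]
    · rintro m ⟨hm, hmw⟩
      have hs' : (m ≫ pullback.fst ρ g) ≫ ρ = t ≫ g := by
        rw [Category.assoc, pullback.condition, reassoc_of% hm]
      have h1 : ev f ρ h₀ _ (m ≫ pullback.fst ρ g) hs' = h := hhuniq _ fun j => by rw [← hnat T t m hm hs' j, hmw]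
      apply pullback.hom_ext
      · rw [pullback.lift_fst]; exact hsuniq _ ⟨hs', h1⟩
      · rw [pullback.lift_snd, hm]
  obtain ⟨P, π, v, hπ, hv, hP⟩ := exists_power g c hc n
  obtain ⟨a, ⟨ha, hav⟩, -⟩ := hP PR (pullback.snd ρ g) r hr
  obtain ⟨b, ⟨hb, hbv⟩, -⟩ := hPR P π v hv
  have hab : a ≫ b = 𝟙 PR := (hPR PR (pullback.snd ρ g) r hr).unique
    ⟨by rw [Category.assoc, hb, ha], fun j => by rw [Category.assoc, hbv, hav]⟩
    ⟨Category.id_comp _, fun j => Category.id_comp _⟩
  have hba : b ≫ a = 𝟙 P := (hP P π v hv).unique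
    ⟨by rw [Category.assoc, ha, hb], fun j => by rw [Category.assoc, hav, hbv]⟩
    ⟨Category.id_comp _, fun j => Category.id_comp _⟩
  haveI : IsIso a := ⟨b, hab, hba⟩
  rw [← ha]
  exact (MorphismProperty.cancel_left_of_respectsIso FEt.prop a π).2 hπ

/-- Base change in two steps. -/
theorem prop_snd_snd {A B M : Scheme.{u}} (a : A ⟶ X) (G : B ⟶ X) (i : M ⟶ B) (g : M ⟶ X) (hg : i ≫ G = g)
    (h : FEt.prop (pullback.snd a g)) : FEt.prop (pullback.snd (pullback.snd a G) i) := by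
  subst hg
  rw [← pullbackLeftPullbackSndIso_hom_snd]
  exact (MorphismProperty.cancel_left_of_respectsIso FEt.prop _ _).2 h

set_option maxHeartbeats 800000 in
/-- `prop_pullback_snd_of_split`, the splitting given as a decomposition of the base change. -/
theorem prop_pullback_snd_of_iso [Etale f] (hc : FEt.prop c)
    (hev : ∀ (T : Scheme.{u}) (g : T ⟶ X) (s : T ⟶ R) (hs : s ≫ ρ = g), ev f ρ h₀ g s hs ≫ c = pullback.fst g f ≫ g)
    (huniv : ∀ (T : Scheme.{u}) (g : T ⟶ X) (h : pullback g f ⟶ Z), h ≫ c = pullback.fst g f ≫ g →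
      ∃! s : T ⟶ R, ∃ hs : s ≫ ρ = g, ev f ρ h₀ g s hs = h)
    {N : Scheme.{u}} (g : N ⟶ X) {n : ℕ} (V : Fin n → Scheme.{u}) (cc : ∀ j, V j ⟶ N) (hcc : ∀ j, IsIso (cc j))
    (e : ∐ V ≅ pullback f g) (he : ∀ j, Sigma.ι V j ≫ e.hom ≫ pullback.snd f g = cc j) :
    FEt.prop (pullback.snd ρ g) := by
  haveI : ∀ j, IsIso (cc j) := hcc
  let σ : Fin n → (N ⟶ U) := fun j => inv (cc j) ≫ Sigma.ι V j ≫ e.hom ≫ pullback.fst f g
  have hσ : ∀ j, σ j ≫ f = g := fun j => by
    simp only [σ, Category.assoc, pullback.condition]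
    rw [reassoc_of% (he j), IsIso.inv_hom_id_assoc]
  let w : pullback f g ≅ pullback (𝟙 N ≫ g) f :=
    pullbackSymmetry f g ≪≫ pullback.congrHom (Category.id_comp g).symm rfl
  have hw1 : w.hom ≫ pullback.fst (𝟙 N ≫ g) f = pullback.snd f g := by
    simp only [w, Iso.trans_hom, Category.assoc, pullback.congrHom_hom]
    rw [pullback.lift_fst, Category.comp_id, pullbackSymmetry_hom_comp_fst]
  have hw2 : w.hom ≫ pullback.snd (𝟙 N ≫ g) f = pullback.fst f g := by
    simp only [w, Iso.trans_hom, Category.assoc, pullback.congrHom_hom]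
    rw [pullback.lift_snd, Category.comp_id, pullbackSymmetry_hom_comp_snd]
  have hsec : ∀ j, sec g f σ hσ N (𝟙 _) j = inv (cc j) ≫ Sigma.ι V j ≫ e.hom ≫ w.hom := by
    intro j
    apply pullback.hom_ext
    · rw [sec_fst]
      simp only [Category.assoc, hw1]
      rw [he j, IsIso.inv_hom_id]
    · rw [sec_snd, Category.id_comp]
      simp only [Category.assoc, hw2, σ]
  let Φ := e.hom ≫ w.hom
  have hrange : ∀ j, Set.range (sec g f σ hσ N (𝟙 _) j) = Φ '' Set.range (Sigma.ι V j) := by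
    intro j
    rw [hsec]
    ext z
    constructor
    · rintro ⟨y, rfl⟩
      exact ⟨Sigma.ι V j (inv (cc j) y), ⟨_, rfl⟩, by simp [Φ]⟩
    · rintro ⟨_, ⟨y, rfl⟩, rfl⟩
      refine ⟨cc j y, ?_⟩
      rw [← Scheme.Hom.comp_apply, ← Scheme.Hom.comp_apply, IsIso.hom_inv_id_assoc]
  refine prop_pullback_snd_of_split c f ρ h₀ hc hev huniv g σ hσ (fun i j hij => ?_) fun z => ?_
  · rw [hrange, hrange]
    refine Set.disjoint_image_of_injective Φ.homeomorph.injective ?_
    rw [Set.disjoint_left]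
    intro a ha hb
    exact (disjoint_iff_inf_le.1 (disjoint_opensRange_sigmaι V i j hij))
      (show a ∈ (Sigma.ι V i).opensRange ⊓ (Sigma.ι V j).opensRange from ⟨ha, hb⟩)
  · obtain ⟨a, rfl⟩ := Φ.homeomorph.surjective z
    obtain ⟨j, y, hy⟩ := (sigmaOpenCover V).exists_eq a
    exact ⟨j, by rw [hrange]; exact ⟨a, ⟨y, hy⟩, rfl⟩⟩

set_option maxHeartbeats 800000 in
/-- Morphisms between finite étale schemes are represented by a finite étale scheme. -/
theorem exists_internalHom (f : U ⟶ X) [IsFinite f] [Etale f] (hc : FEt.prop c) :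
    ∃ (R : Scheme.{u}) (ρ : R ⟶ X), FEt.prop ρ ∧ ∀ (T : Scheme.{u}) (g : T ⟶ X),
      Nonempty ({s : T ⟶ R // s ≫ ρ = g} ≃ {h : pullback g f ⟶ Z // h ≫ c = pullback.fst g f ≫ g}) := by
  classical
  haveI : IsFinite c := hc.1
  haveI : Etale c := hc.2
  let Z' : Over U := Red.bc f (Over.mk c)
  haveI : IsFinite Z'.hom := inferInstanceAs (IsFinite (pullback.snd c f))
  obtain ⟨R, q, hR⟩ := Groth.Agent.WeilExist.exists_isWeilRes_of_finite f Z' (fun x P _ hPx => by
    obtain ⟨V, hV, hxV, -⟩ := exists_isAffineOpen_mem_and_subset (X := X) (x := x) (U := ⊤) trivial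
    exact ⟨V, (Z'.hom ≫ f) ⁻¹ᵁ V, hV, hV.preimage _, hxV, fun y hy => hy, fun y hy => by
      show f (Z'.hom y) ∈ V
      rw [hPx y hy]; exact hxV⟩)
  let h₀ : pullback R.hom f ⟶ Z := q.left ≫ pullback.fst c f
  have hq : q.left ≫ pullback.snd c f = pullback.snd R.hom f := Over.w q
  have hev : ∀ (T : Scheme.{u}) (g : T ⟶ X) (s : T ⟶ R.left) (hs : s ≫ R.hom = g),
      ev f R.hom h₀ g s hs ≫ c = pullback.fst g f ≫ g := fun T g s hs => by
    simp only [ev, h₀, Category.assoc]
    rw [pullback.condition, reassoc_of% hq]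
    erw [pullback.lift_snd_assoc]
    exact pullback.condition.symm
  have huniv : ∀ (T : Scheme.{u}) (g : T ⟶ X) (h : pullback g f ⟶ Z), h ≫ c = pullback.fst g f ≫ g →
      ∃! s : T ⟶ R.left, ∃ hs : s ≫ R.hom = g, ev f R.hom h₀ g s hs = h := by
    intro T g h hh
    let ψ : Red.bc f (Over.mk g) ⟶ Z' :=
      Over.homMk (pullback.lift h (pullback.snd g f) (hh.trans pullback.condition)) (pullback.lift_snd _ _ _)
    have key : ∀ s : Over.mk g ⟶ R, WeilRes.restr f q (Over.mk g) s = ψ ↔ ev f R.hom h₀ g s.left (Over.w s) = h := by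
      intro s
      have e1 : (WeilRes.restr f q (Over.mk g) s).left ≫ pullback.fst c f = ev f R.hom h₀ g s.left (Over.w s) :=
        Category.assoc _ _ _
      constructor
      · intro hs
        rw [← e1, hs]
        exact pullback.lift_fst _ _ _
      · intro hs
        refine Over.OverMorphism.ext (pullback.hom_ext ?_ ?_)
        · exact (e1.trans hs).trans (pullback.lift_fst _ _ _).symm
        · exact (Over.w (WeilRes.restr f q (Over.mk g) s)).trans (Over.w ψ).symm
    obtain ⟨s, hs⟩ := (hR (Over.mk g)).2 ψ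
    refine ⟨s.left, ⟨Over.w s, (key s).1 hs⟩, ?_⟩
    rintro s' ⟨hs', hse⟩
    have := (hR (Over.mk g)).1 (hs.trans ((key (Over.homMk s' hs')).2 hse).symm)
    exact (congrArg Over.Hom.left this).symm
  refine ⟨R.left, R.hom, ?_, fun T g => ⟨Equiv.ofBijective
    (fun s => ⟨ev f R.hom h₀ g s.1 s.2, hev T g s.1 s.2⟩) ⟨?_, ?_⟩⟩⟩
  · -- descent along an étale covering on which the source splits
    choose N g hg u hu n V cc hcc e he using fun x : X => Groth.Agent.S9559.result f x
    haveI : ∀ x, Etale (g x) := hg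
    let G : (∐ N) ⟶ X := Sigma.desc g
    haveI : Etale G := IsZariskiLocalAtSource.sigmaDesc hg
    haveI : Surjective G := ⟨fun x => ⟨Sigma.ι N x (u x), by
      rw [← Scheme.Hom.comp_apply, Sigma.ι_desc]; exact hu x⟩⟩
    haveI := FpqcDesc.descendsAlong_isFinite.{u}
    have hQ : (@Surjective ⊓ @Flat ⊓ @LocallyOfFinitePresentation : MorphismProperty Scheme.{u}) G :=
      ⟨⟨inferInstance, inferInstance⟩, inferInstance⟩
    suffices FEt.prop (pullback.snd R.hom G) from
      ⟨MorphismProperty.of_pullback_snd_of_descendsAlong (P := @IsFinite) hQ this.1,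
        MorphismProperty.of_pullback_snd_of_descendsAlong (P := @Etale) hQ this.2⟩
    refine IsZariskiLocalAtTarget.of_openCover (P := FEt.prop) (sigmaOpenCover N) fun x => ?_
    refine prop_snd_snd R.hom G (Sigma.ι N x) (g x) (Sigma.ι_desc g x) ?_
    exact prop_pullback_snd_of_iso c f R.hom h₀ hc hev huniv (g x) (V x) (cc x) (hcc x) (e x) (he x)
  · intro s s' h
    exact Subtype.ext ((huniv T g _ (hev T g s.1 s.2)).unique ⟨s.2, rfl⟩ ⟨s'.2, (congrArg Subtype.val h).symm⟩)
  · rintro ⟨h, hh⟩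
    obtain ⟨s, ⟨hs, hse⟩, -⟩ := huniv T g h hh
    exact ⟨⟨s, hs⟩, Subtype.ext hse⟩

/-- Morphisms to `Z` over `X` from a base change are morphisms of base changes. -/
noncomputable def homEquiv {T : Scheme.{u}} (g : T ⟶ X) :
    {h : pullback g f ⟶ Z // h ≫ c = pullback.fst g f ≫ g} ≃
      {m : pullback f g ⟶ pullback c g // m ≫ pullback.snd c g = pullback.snd f g} where
  toFun h := ⟨pullback.lift ((pullbackSymmetry f g).hom ≫ h.1) (pullback.snd f g)
    (by rw [Category.assoc, h.2, ← Category.assoc, pullbackSymmetry_hom_comp_fst]), pullback.lift_snd _ _ _⟩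
  invFun m := ⟨(pullbackSymmetry f g).inv ≫ m.1 ≫ pullback.fst c g, by
    rw [Category.assoc, Category.assoc, pullback.condition, reassoc_of% m.2,
      pullbackSymmetry_inv_comp_snd_assoc]⟩
  left_inv h := Subtype.ext (by dsimp only; rw [pullback.lift_fst, Iso.inv_hom_id_assoc])
  right_inv m := Subtype.ext (pullback.hom_ext (by dsimp only; rw [pullback.lift_fst, Iso.hom_inv_id_assoc])
    (by dsimp only; rw [pullback.lift_snd, m.2]))

end Groth.Agent.WeilEtale25
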