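import Groth.Prelude.Def_FEt
import Mathlib.AlgebraicGeometry.Limits
import Mathlib.AlgebraicGeometry.Morphisms.Etale
import Mathlib.AlgebraicGeometry.Morphisms.FlatMono

/-!
# Powers of finite étale schemes and maps out of split covers
-/

set_option autoImplicit false
set_option backward.isDefEq.respectTransparency.types false
universe u

open CategoryTheory CategoryTheory.Limits AlgebraicGeometry

namespace Groth.Agent.WeilEtale25

variable {X N : Scheme.{u}} (g : N ⟶ X) {Z : Scheme.{u}} (c : Z ⟶ X) {U : Scheme.{u}} (f : U ⟶ X)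

/-- Finite fibre powers of a finite étale scheme are finite étale. -/
theorem exists_power (hc : FEt.prop c) : ∀ n : ℕ, ∃ (P : Scheme.{u}) (π : P ⟶ N) (v : Fin n → (P ⟶ Z)),
    FEt.prop π ∧ (∀ j, v j ≫ c = π ≫ g) ∧
      ∀ (T : Scheme.{u}) (t : T ⟶ N) (w : Fin n → (T ⟶ Z)), (∀ j, w j ≫ c = t ≫ g) →
        ∃! s : T ⟶ P, s ≫ π = t ∧ ∀ j, s ≫ v j = w j := by
  intro n
  induction n with
  | zero =>
    exact ⟨N, 𝟙 N, fun j => j.elim0, MorphismProperty.id_mem _ _, fun j => j.elim0,
      fun T t w _ => ⟨t, ⟨Category.comp_id _, fun j => j.elim0⟩, fun s hs => (Category.comp_id s).symm.trans hs.1⟩⟩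
  | succ n ih =>
    obtain ⟨P, π, v, hπ, hv, huniv⟩ := ih
    let π' := pullback.fst (π ≫ g) c ≫ π
    refine ⟨pullback (π ≫ g) c, π', Fin.cons (pullback.snd _ _) fun j => pullback.fst _ _ ≫ v j,
      MorphismProperty.comp_mem _ _ _ (MorphismProperty.pullback_fst _ _ hc) hπ, ?_, ?_⟩
    · intro j
      refine Fin.cases ?_ (fun j => ?_) j
      · simp [π', pullback.condition]
      · simp [π', hv]
    · intro T t w hw
      obtain ⟨s, ⟨hs, hsv⟩, huniq⟩ := huniv T t (fun j => w j.succ) (fun j => hw _)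
      refine ⟨pullback.lift s (w 0) (by rw [reassoc_of% hs, hw]), ⟨?_, ?_⟩, ?_⟩
      · show _ ≫ pullback.fst _ _ ≫ π = t
        erw [pullback.lift_fst_assoc, hs]
      · intro j
        refine Fin.cases ?_ (fun j => ?_) j
        · show _ ≫ pullback.snd _ _ = _
          erw [pullback.lift_snd]
        · show _ ≫ pullback.fst _ _ ≫ v j = _
          erw [pullback.lift_fst_assoc]
          exact hsv j
      · rintro r ⟨hr, hrv⟩
        have h1 : r ≫ pullback.fst _ _ = s := huniq _ ⟨by simpa [π', Category.assoc] using hr,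
          fun j => by simpa using hrv j.succ⟩
        apply pullback.hom_ext
        · rw [pullback.lift_fst, h1]
        · rw [pullback.lift_snd]; simpa using hrv 0

variable {n : ℕ} (σ : Fin n → (N ⟶ U)) (hσ : ∀ j, σ j ≫ f = g)

/-- A section of the base change. -/
noncomputable abbrev sec (T : Scheme.{u}) (t : T ⟶ N) (j : Fin n) : T ⟶ pullback (t ≫ g) f :=
  pullback.lift (𝟙 T) (t ≫ σ j) (by rw [Category.id_comp, Category.assoc, hσ])

theorem sec_fst (T : Scheme.{u}) (t : T ⟶ N) (j : Fin n) : sec g f σ hσ T t j ≫ pullback.fst (t ≫ g) f = 𝟙 T :=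
  pullback.lift_fst _ _ _

theorem sec_snd (T : Scheme.{u}) (t : T ⟶ N) (j : Fin n) : sec g f σ hσ T t j ≫ pullback.snd (t ≫ g) f = t ≫ σ j :=
  pullback.lift_snd _ _ _

/-- Maps out of a split cover are families of maps. -/
theorem existsUnique_desc [Etale f] (hdisj : ∀ i j, i ≠ j →
      Disjoint (Set.range (sec g f σ hσ N (𝟙 N) i)) (Set.range (sec g f σ hσ N (𝟙 N) j)))
    (hcov : ∀ z : ↥(pullback (𝟙 N ≫ g) f), ∃ j, z ∈ Set.range (sec g f σ hσ N (𝟙 N) j))
    (T : Scheme.{u}) (t : T ⟶ N) {W : Scheme.{u}} (w : Fin n → (T ⟶ W)) :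
    ∃! h : pullback (t ≫ g) f ⟶ W, ∀ j, sec g f σ hσ T t j ≫ h = w j := by
  let τ := sec g f σ hσ T t
  haveI : ∀ j, IsOpenImmersion (τ j) := fun j => by
    haveI : Etale (τ j ≫ pullback.fst (t ≫ g) f) := by rw [pullback.lift_fst]; infer_instance
    haveI : Mono (τ j ≫ pullback.fst (t ≫ g) f) := by rw [pullback.lift_fst]; infer_instance
    haveI : Mono (τ j) := mono_of_mono _ (pullback.fst (t ≫ g) f)
    haveI : Etale (τ j) := MorphismProperty.of_postcomp (W := @Etale) (W' := @Etale) _ (pullback.fst (t ≫ g) f)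
      inferInstance ‹_›
    exact IsOpenImmersion.of_flat_of_mono _
  let m : pullback (t ≫ g) f ⟶ pullback (𝟙 N ≫ g) f :=
    pullback.lift (pullback.fst _ _ ≫ t) (pullback.snd _ _)
      (by rw [Category.id_comp, Category.assoc, pullback.condition])
  have hm1 : m ≫ pullback.fst _ _ = pullback.fst _ _ ≫ t := pullback.lift_fst _ _ _
  have hm2 : m ≫ pullback.snd _ _ = pullback.snd _ _ := pullback.lift_snd _ _ _
  have hm : ∀ j, τ j ≫ m = t ≫ sec g f σ hσ N (𝟙 N) j := fun j => by
    apply pullback.hom_ext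
    · rw [Category.assoc, hm1, ← Category.assoc, sec_fst, Category.id_comp, Category.assoc, sec_fst, Category.comp_id]
    · rw [Category.assoc, hm2, sec_snd, Category.assoc, sec_snd, Category.id_comp]
  have hpre : ∀ j, Set.range (τ j) = m ⁻¹' Set.range (sec g f σ hσ N (𝟙 N) j) := by
    intro j
    apply Set.Subset.antisymm
    · rintro _ ⟨y, rfl⟩
      exact ⟨t y, by rw [← Scheme.Hom.comp_apply, ← hm, Scheme.Hom.comp_apply]⟩
    · rintro z ⟨y, hy⟩
      obtain ⟨q, hq, -⟩ := Scheme.Pullback.exists_preimage_pullback (f := m) (g := sec g f σ hσ N (𝟙 N) j) z y hy.symm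
      have h : (pullback.fst m (sec g f σ hσ N (𝟙 N) j) ≫ pullback.fst (t ≫ g) f) ≫ τ j =
          pullback.fst m (sec g f σ hσ N (𝟙 N) j) := by
        have h1 := congrArg (· ≫ pullback.fst _ _) (pullback.condition (f := m) (g := sec g f σ hσ N (𝟙 N) j))
        have h2 := congrArg (· ≫ pullback.snd _ _) (pullback.condition (f := m) (g := sec g f σ hσ N (𝟙 N) j))
        simp only [Category.assoc, sec_fst, sec_snd, hm1, hm2, Category.comp_id, Category.id_comp] at h1 h2
        apply pullback.hom_ext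
        · rw [Category.assoc, sec_fst, Category.comp_id]
        · rw [Category.assoc, sec_snd, Category.assoc, reassoc_of% h1, h2]
      exact ⟨(pullback.fst m _ ≫ pullback.fst (t ≫ g) f) q, by rw [← Scheme.Hom.comp_apply, h, hq]⟩
  obtain ⟨hc⟩ := nonempty_isColimit_cofanMk_of (σ := Fin n) τ (by
    rw [eq_top_iff]
    intro z _
    obtain ⟨j, hj⟩ := hcov (m z)
    exact TopologicalSpace.Opens.mem_iSup.2 ⟨j, show z ∈ Set.range (τ j) by rw [hpre]; exact hj⟩) (fun i j hij => by
    rw [Function.onFun, disjoint_iff_inf_le]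
    rintro z ⟨hz, hz'⟩
    have hz1 : z ∈ Set.range (τ i) := hz
    have hz2 : z ∈ Set.range (τ j) := hz'
    rw [hpre] at hz1 hz2
    exact Set.disjoint_left.1 (hdisj i j hij) hz1 hz2)
  refine ⟨hc.desc (Cofan.mk W w), fun j => hc.fac (Cofan.mk W w) ⟨j⟩, fun h hh => ?_⟩
  exact hc.uniq (Cofan.mk W w) h fun j => hh j.as

end Groth.Agent.WeilEtale25
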